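import Mathlib.FieldTheory.IsSepClosed
import Mathlib.RingTheory.Henselian
import Mathlib.RingTheory.IntegralClosure.IntegrallyClosed
import Mathlib.RingTheory.LocalRing.ResidueField.Ideal
import Mathlib.RingTheory.Localization.Integral
import Mathlib.RingTheory.Localization.AtPrime.Basic

universe u

open Polynomial

namespace Groth.Agent.SepCl83

lemma exists_root_of_derivative_ne_zero {K : Type*} [Field K] [IsSepClosed K] (h : K[X])
    (hd : derivative h ≠ 0) : ∃ x, h.IsRoot x := by
  induction h using UniqueFactorizationMonoid.induction_on_prime with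
  | h₁ => simp at hd
  | h₂ u hu =>
    obtain ⟨r, -, rfl⟩ := Polynomial.isUnit_iff.mp hu
    simp at hd
  | h₃ a p ha hp ih =>
    by_cases hp' : derivative p = 0
    · obtain ⟨x, hx⟩ := ih fun h0 ↦ hd (by simp [derivative_mul, hp', h0])
      exact ⟨x, by simp [IsRoot, eval_mul, show eval x a = 0 from hx]⟩
    · have hsep : p.Separable :=
        (Polynomial.separable_iff_derivative_ne_zero hp.irreducible).mpr hp'
      obtain ⟨x, hx⟩ := IsSepClosed.exists_root p
        (fun h0 ↦ hp.irreducible.degree_pos.ne' h0) hsep
      exact ⟨x, by simp [IsRoot, eval_mul, show eval x p = 0 from hx]⟩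

variable {A : Type u} [CommRing A] [IsDomain A] [IsIntegrallyClosed A]
  (K : Type u) [Field K] [Algebra A K] [IsFractionRing A K] [IsSepClosed K]

include K in
lemma exists_root_of_monic {f : A[X]} (hf : f.Monic) (hd : derivative f ≠ 0) :
    ∃ a : A, f.IsRoot a := by
  have hinj := IsFractionRing.injective A K
  obtain ⟨x, hx⟩ := exists_root_of_derivative_ne_zero (f.map (algebraMap A K)) (by
    rw [derivative_map]
    exact fun h0 ↦ hd (Polynomial.map_injective _ hinj (h0.trans (Polynomial.map_zero _).symm)))
  have hint : IsIntegral A x := ⟨f, hf, by rw [← eval_map]; exact hx⟩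
  obtain ⟨a, rfl⟩ := IsIntegrallyClosed.isIntegral_iff.mp hint
  refine ⟨a, hinj ?_⟩
  rw [map_zero, ← Polynomial.eval_map_apply]
  exact hx

variable [IsLocalRing A]

include K in
lemma henselian : HenselianLocalRing A where
  is_henselian := by
    intro f hf a₀ h0 h1
    induction hn : f.natDegree using Nat.strong_induction_on generalizing f with
    | _ n ih =>
      have hd : derivative f ≠ 0 := fun h ↦ by simp [h] at h1
      obtain ⟨r, hr⟩ := exists_root_of_monic K hf hd
      obtain ⟨q, rfl⟩ := dvd_iff_isRoot.mpr hr
      by_cases hr0 : r - a₀ ∈ IsLocalRing.maximalIdeal A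
      · exact ⟨r, hr, hr0⟩
      have hu : IsUnit (a₀ - r) := by
        by_contra hu
        exact hr0 (by simpa using neg_mem ((IsLocalRing.mem_maximalIdeal _).mpr hu))
      have hqm : q.Monic := (monic_X_sub_C r).of_mul_monic_left hf
      rw [eval_mul, eval_sub, eval_X, eval_C] at h0
      have hq0 : q.eval a₀ ∈ IsLocalRing.maximalIdeal A :=
        ((IsLocalRing.maximalIdeal.isMaximal A).isPrime.mem_or_mem h0).resolve_left
          fun h ↦ (IsLocalRing.mem_maximalIdeal _).mp h hu
      have hq1 : IsUnit ((derivative q).eval a₀) := by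
        simp only [derivative_mul, derivative_sub, derivative_X, derivative_C, sub_zero, one_mul,
          eval_add, eval_mul, eval_sub, eval_X, eval_C] at h1
        by_contra hq
        exact (IsLocalRing.mem_maximalIdeal _).mp
          (add_mem hq0 (Ideal.mul_mem_left _ _ ((IsLocalRing.mem_maximalIdeal _).mpr hq))) h1
      obtain ⟨a, ha, ha'⟩ := ih q.natDegree (by
        rw [← hn, (monic_X_sub_C r).natDegree_mul hqm, natDegree_X_sub_C]
        omega) q hqm hq0 hq1 rfl
      exact ⟨a, by simp [IsRoot, eval_mul, show q.eval a = 0 from ha], ha'⟩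

include K in
lemma isSepClosed_residueField : IsSepClosed (IsLocalRing.ResidueField A) := by
  refine IsSepClosed.of_exists_root _ fun p hpm hpi hps ↦ ?_
  obtain ⟨f, rfl, -, hfm⟩ := lifts_and_natDegree_eq_and_monic
    (Polynomial.map_surjective (IsLocalRing.residue A) IsLocalRing.residue_surjective p) hpm
  have hd : derivative f ≠ 0 := fun h ↦
    (Polynomial.separable_iff_derivative_ne_zero hpi).mp hps (by
      rw [derivative_map, h, Polynomial.map_zero])
  obtain ⟨a, ha⟩ := exists_root_of_monic K hfm hd
  exact ⟨IsLocalRing.residue A a, IsRoot.map ha⟩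

include K in
lemma isAlgClosed_residueField (hm : IsLocalRing.maximalIdeal A ≠ ⊥) :
    IsAlgClosed (IsLocalRing.ResidueField A) := by
  refine IsAlgClosed.of_exists_root _ fun p hpm hpi ↦ ?_
  obtain ⟨f, rfl, hdeg, hfm⟩ := lifts_and_natDegree_eq_and_monic
    (Polynomial.map_surjective (IsLocalRing.residue A) IsLocalRing.residue_surjective p) hpm
  by_cases hd : derivative f = 0
  · obtain ⟨c, hc, hc0⟩ := Submodule.exists_mem_ne_zero_of_ne_bot hm
    have hn : 2 ≤ f.natDegree := by
      by_contra! hlt
      have h1 : 1 ≤ f.natDegree := hdeg ▸ hpi.natDegree_pos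
      have := hfm.eq_X_add_C (by omega)
      rw [this, derivative_add, derivative_X, derivative_C, add_zero] at hd
      exact one_ne_zero hd
    have hlt : (C c * X).natDegree < f.natDegree :=
      lt_of_le_of_lt ((natDegree_C_mul_le _ _).trans natDegree_X_le) hn
    obtain ⟨a, ha⟩ := exists_root_of_monic K (f := f + C c * X)
      (hfm.add_of_left (degree_lt_degree hlt)) (by simp [hd, hc0])
    refine ⟨IsLocalRing.residue A a, ?_⟩
    have h := IsRoot.map (f := IsLocalRing.residue A) ha
    simpa [IsRoot, Polynomial.map_add, Polynomial.map_mul,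
      show IsLocalRing.residue A c = 0 from (IsLocalRing.residue_eq_zero_iff c).mpr hc] using h
  · obtain ⟨a, ha⟩ := exists_root_of_monic K hfm hd
    exact ⟨IsLocalRing.residue A a, IsRoot.map ha⟩

end Groth.Agent.SepCl83
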